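import Mathlib
import Cfsg.Agent.Lib.CharTwoInv.SymplecticInv

/-! Counting classes of involutions of classical groups in characteristic two by the rank of `t - 1`
and by whether `v ↦ f(v, t v)` vanishes. -/

set_option autoImplicit false

namespace CfsgLib.InvolCount

open Module CfsgLib.CharTwoInv

theorem card_classes_of_reps {G : Type*} [Group G] {κ : Type*} (P : G → Prop) (rep : κ → G)
    (hrep : ∀ i, P (rep i)) (hinj : ∀ i j, IsConj (rep i) (rep j) → i = j)
    (hsurj : ∀ g, P g → ∃ i, IsConj (rep i) g) :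
    Nat.card {C : ConjClasses G // ∃ g, ConjClasses.mk g = C ∧ P g} = Nat.card κ := by
  refine (Nat.card_congr (Equiv.ofBijective
    (fun i => (⟨ConjClasses.mk (rep i), rep i, rfl, hrep i⟩ :
      {C : ConjClasses G // ∃ g, ConjClasses.mk g = C ∧ P g})) ⟨fun i j h => ?_, ?_⟩)).symm
  · exact hinj i j (ConjClasses.mk_eq_mk_iff_isConj.mp (congrArg Subtype.val h))
  · rintro ⟨C, g, rfl, hg⟩
    obtain ⟨i, hi⟩ := hsurj g hg
    exact ⟨i, Subtype.ext (ConjClasses.mk_eq_mk_iff_isConj.mpr hi)⟩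

theorem orderOf_two_iff {G : Type*} [Group G] {a : G} : orderOf a = 2 ↔ a * a = 1 ∧ a ≠ 1 := by
  constructor
  · intro h
    refine ⟨by rw [← pow_two, ← h]; exact pow_orderOf_eq_one a, ?_⟩
    rintro rfl
    simp at h
  · rintro ⟨h, h'⟩
    exact orderOf_eq_prime (by rw [pow_two, h]) h'

section Space

variable {F V : Type*} [Field F] [CharP F 2] [AddCommGroup V] [Module F V]

theorem sesqSymm_of_alt (B : LinearMap.BilinForm F V) (hA : B.IsAlt) :
    SesqSymm (σ := RingHom.id F) B := by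
  intro x y
  rw [RingHom.id_apply, ← LinearMap.IsAlt.neg hA x y, CharTwo.neg_eq]

theorem sesqNondeg_of_nondeg (B : LinearMap.BilinForm F V) (hB : B.Nondegenerate) :
    SesqNondeg (σ := RingHom.id F) B := fun y hy => hB.2 y hy

theorem selfAdjNil_sub_one (B : LinearMap.BilinForm F V) (A : V →ₗ[F] V) (hA : ∀ v, A (A v) = v)
    (hi : ∀ u v, B (A u) (A v) = B u v) : SelfAdjNil (σ := RingHom.id F) B (A - 1) := by
  refine ⟨fun x => ?_, fun x y => ?_⟩
  · simp only [LinearMap.sub_apply, End.one_apply, map_sub, hA]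
    rw [show x - A x - (A x - x) = (2 : F) • (x - A x) by module, CharTwo.two_eq_zero, zero_smul]
  · simp only [LinearMap.sub_apply, End.one_apply, map_sub]
    congr 1
    rw [← hi, hA]

variable [FiniteDimensional F V]

theorem exists_conj_alt [Finite F] (B : LinearMap.BilinForm F V) (hB : B.Nondegenerate) (hBa : B.IsAlt)
    (A A' : V →ₗ[F] V) (hA : ∀ v, A (A v) = v) (hA' : ∀ v, A' (A' v) = v)
    (hi : ∀ u v, B (A u) (A v) = B u v) (hi' : ∀ u v, B (A' u) (A' v) = B u v)
    (hr : finrank F (LinearMap.range (A - 1)) = finrank F (LinearMap.range (A' - 1)))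
    (halt : (∀ v, B v (A v) = 0) ↔ ∀ v, B v (A' v) = 0) :
    ∃ g : V ≃ₗ[F] V, (∀ u v, B (g u) (g v) = B u v) ∧ ∀ v, g (A v) = A' (g v) := by
  have : Fintype F := Fintype.ofFinite F
  obtain ⟨g, hg, hgA⟩ := exists_selfAdj_conj (sesqSymm_of_alt B hBa) (sesqNondeg_of_nondeg B hB) (fun _ => rfl)
    (fun x => ⟨0, by rw [hBa]; simp⟩)
    (fun c _ _ => by
      obtain ⟨r, hr⟩ := FiniteField.isSquare_of_char_two (ringChar.eq F 2) c
      exact ⟨r, hr.symm⟩)
    (fun X f hf hinj => CfsgLib.Forms.witt_alternating B hB hBa X f hf hinj)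
    (selfAdjNil_sub_one B A hA hi) (selfAdjNil_sub_one B A' hA' hi') hr
    (by simpa [map_sub, hBa _] using halt)
  exact ⟨g, hg, fun v => by simpa [map_sub] using hgA v⟩

theorem finrank_range_le (A : V →ₗ[F] V) (hA : ∀ v, A (A v) = v) :
    2 * finrank F (LinearMap.range (A - 1)) ≤ finrank F V := by
  have h : LinearMap.range (A - 1) ≤ LinearMap.ker (A - 1) := by
    rintro _ ⟨x, rfl⟩
    rw [LinearMap.mem_ker]
    simp only [LinearMap.sub_apply, End.one_apply, map_sub, hA]
    rw [show x - A x - (A x - x) = (2 : F) • (x - A x) by module, CharTwo.two_eq_zero, zero_smul]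
  have h1 := Submodule.finrank_mono h
  have h2 := LinearMap.finrank_range_add_finrank_ker (A - 1)
  omega

theorem even_of_alt (B : LinearMap.BilinForm F V) (hB : B.Nondegenerate) (hBa : B.IsAlt)
    (A : V →ₗ[F] V) (hA : ∀ v, A (A v) = v) (hi : ∀ u v, B (A u) (A v) = B u v)
    (halt : ∀ v, B v (A v) = 0) : Even (finrank F (LinearMap.range (A - 1))) := by
  obtain ⟨S⟩ := exists_isoSection (sesqSymm_of_alt B hBa) (sesqNondeg_of_nondeg B hB) (fun _ => rfl)
    (fun x => ⟨0, by rw [hBa]; simp⟩) (selfAdjNil_sub_one B A hA hi)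
  refine sesq_alt_even _ S.form S.symm S.nondeg (fun b => ?_) rfl
  rw [S.form_eq, ← S.right b, LinearMap.sub_apply, End.one_apply, map_sub, halt, hBa, sub_self]

end Space

section Group

variable {F : Type*} [Field F] [CharP F 2] {ι : Type} [Fintype ι] [DecidableEq ι]
variable {G : Type*} [Group G] (φ : G →* Matrix ι ι F) (B : LinearMap.BilinForm F (ι → F))

/-- `rank (t - 1)`. -/
noncomputable def invRk (g : G) : ℕ := finrank F (LinearMap.range (Matrix.toLinAlgEquiv' (φ g) - 1))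

/-- `f(v, t v) = 0` for all `v`. -/
def InvAlt (g : G) : Prop := ∀ v, B v (Matrix.toLinAlgEquiv' (φ g) v) = 0

omit [CharP F 2] in
theorem invRk_eq (g : G) : invRk φ g = (φ g - 1).rank := by
  rw [invRk, Matrix.rank, ← map_one (Matrix.toLinAlgEquiv' (R := F) (n := ι)), ← map_sub]
  rfl

omit [CharP F 2] in
theorem toLin_apply_twice {a : G} (ha : a * a = 1) (v : ι → F) :
    Matrix.toLinAlgEquiv' (φ a) (Matrix.toLinAlgEquiv' (φ a) v) = v := by
  rw [← End.mul_apply, ← map_mul, ← map_mul, ha, map_one, map_one, End.one_apply]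

variable (hpres : ∀ g u v, B (Matrix.toLinAlgEquiv' (φ g) u) (Matrix.toLinAlgEquiv' (φ g) v) = B u v)

include hpres in
omit [CharP F 2] in
theorem invariants_of_conj {a b : G} (h : IsConj a b) :
    invRk φ a = invRk φ b ∧ (InvAlt φ B a ↔ InvAlt φ B b) := by
  obtain ⟨g, rfl⟩ := isConj_iff.mp h
  constructor
  · have hu : IsUnit (φ g) := (Group.isUnit g).map φ
    have hu' : IsUnit (φ g⁻¹) := (Group.isUnit g⁻¹).map φ
    rw [invRk_eq, invRk_eq, show φ (g * a * g⁻¹) - 1 = φ g * (φ a - 1) * φ g⁻¹ by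
        rw [mul_sub, sub_mul, mul_one, ← map_mul, ← map_mul, ← map_mul, mul_inv_cancel, map_one],
      Matrix.rank_mul_eq_left_of_isUnit_det _ _ ((Matrix.isUnit_iff_isUnit_det _).mp hu'),
      Matrix.rank_mul_eq_right_of_isUnit_det _ _ ((Matrix.isUnit_iff_isUnit_det _).mp hu)]
  · constructor <;> intro h v
    · have h1 := h (Matrix.toLinAlgEquiv' (φ g⁻¹) v)
      rw [← hpres g] at h1
      simpa only [← End.mul_apply, ← map_mul, mul_inv_cancel, map_one, End.one_apply, ← mul_assoc] using h1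
    · have h1 := h (Matrix.toLinAlgEquiv' (φ g) v)
      rw [← hpres g⁻¹] at h1
      simpa only [← End.mul_apply, ← map_mul, inv_mul_cancel, map_one, End.one_apply, ← mul_assoc,
        one_mul, inv_mul_cancel_right] using h1

include hpres in
theorem card_involution_classes [Finite F] (hφ : Function.Injective φ) (hB : B.Nondegenerate) (hBa : B.IsAlt)
    {m k : ℕ} (hcard : Fintype.card ι = 2 * m)
    (hconj : ∀ a b : G, a * a = 1 → b * b = 1 → invRk φ a = invRk φ b → (InvAlt φ B a ↔ InvAlt φ B b) → IsConj a b)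
    (hk : ∀ a : G, a * a = 1 → InvAlt φ B a → invRk φ a ≤ 2 * k + 1)
    (h1 : ∀ s, 1 ≤ s → s ≤ m → ∃ a : G, a * a = 1 ∧ invRk φ a = s ∧ ¬ InvAlt φ B a)
    (h2 : ∀ j, 1 ≤ j → j ≤ k → ∃ a : G, a * a = 1 ∧ invRk φ a = 2 * j ∧ InvAlt φ B a) :
    Nat.card {C : ConjClasses G // ∃ g, ConjClasses.mk g = C ∧ orderOf g = 2} = m + k := by
  choose r₁ hr₁ hr₁k hr₁a using fun i : Fin m => h1 (i + 1) (by omega) (by omega)
  choose r₂ hr₂ hr₂k hr₂a using fun i : Fin k => h2 (i + 1) (by omega) (by omega)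
  have hne : ∀ a : G, 1 ≤ invRk φ a → a ≠ 1 := by
    rintro a h rfl
    rw [invRk_eq, map_one, sub_self, Matrix.rank_zero] at h
    omega
  rw [card_classes_of_reps (fun g => orderOf g = 2) (Sum.elim r₁ r₂) ?_ ?_ ?_]
  · simp
  · rintro (i | i)
    · exact orderOf_two_iff.mpr ⟨hr₁ i, hne _ (by rw [Sum.elim_inl, hr₁k]; omega)⟩
    · exact orderOf_two_iff.mpr ⟨hr₂ i, hne _ (by rw [Sum.elim_inr, hr₂k]; omega)⟩
  · rintro (i | i) (j | j) h <;> have h' := invariants_of_conj φ B hpres h <;>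
      simp only [Sum.elim_inl, Sum.elim_inr, hr₁k, hr₂k] at h'
    · exact congrArg Sum.inl (Fin.ext (by omega))
    · exact absurd (h'.2.mpr (hr₂a j)) (hr₁a i)
    · exact absurd (h'.2.mp (hr₂a i)) (hr₁a j)
    · exact congrArg Sum.inr (Fin.ext (by omega))
  · intro g hg
    obtain ⟨hg1, hg2⟩ := orderOf_two_iff.mp hg
    have hle : invRk φ g ≤ m := by
      have := finrank_range_le (Matrix.toLinAlgEquiv' (φ g)) (toLin_apply_twice φ hg1)
      rw [finrank_fintype_fun_eq_card, hcard] at this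
      rw [invRk]; omega
    have hpos : 1 ≤ invRk φ g := by
      by_contra h
      apply hg2 (hφ _)
      rw [map_one, ← sub_eq_zero]
      refine Matrix.toLinAlgEquiv'.injective ?_
      rw [map_zero, map_sub, map_one, ← LinearMap.range_eq_bot, ← Submodule.finrank_eq_zero]
      exact Nat.lt_one_iff.mp (not_le.mp h)
    by_cases halt : InvAlt φ B g
    · have heven : Even (invRk φ g) :=
        even_of_alt B hB hBa _ (toLin_apply_twice φ hg1) (hpres g) halt
      have hk' := hk g hg1 halt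
      obtain ⟨j, hj⟩ := heven
      refine ⟨Sum.inr ⟨j - 1, by omega⟩, hconj _ _ (hr₂ _) hg1 ?_ (iff_of_true (hr₂a _) halt)⟩
      rw [Sum.elim_inr, hr₂k]
      show 2 * (j - 1 + 1) = _
      omega
    · refine ⟨Sum.inl ⟨invRk φ g - 1, by omega⟩, hconj _ _ (hr₁ _) hg1 ?_ (iff_of_false (hr₁a _) halt)⟩
      rw [Sum.elim_inl, hr₁k]
      show invRk φ g - 1 + 1 = _
      omega

end Group

end CfsgLib.InvolCount
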