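import Mathlib
import Cfsg.Agent.Lib.InvolCount.Basic
import Cfsg.Agent.Lib.CharTwoInv.OrthForms

/-! Involution classes of the isometry group of a quadratic form in characteristic two. -/

set_option autoImplicit false

namespace CfsgLib.InvolCount

open Module QuadraticMap

variable {F : Type*} [Field F] {ι : Type} [Fintype ι] [DecidableEq ι]

/-- The inclusion of an isometry group in the matrix monoid. -/
def isoMat (q : (ι → F) → F) : ↥(Cfsg.isometryGroup F q) →* Matrix ι ι F :=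
  (Units.coeHom _).comp (Cfsg.isometryGroup F q).subtype

theorem isoMat_injective (q : (ι → F) → F) : Function.Injective (isoMat q) := fun _ _ h =>
  Subtype.ext (Units.ext h)

theorem isoMat_map (q : (ι → F) → F) (g : ↥(Cfsg.isometryGroup F q)) (v : ι → F) :
    q (Matrix.toLinAlgEquiv' (isoMat q g) v) = q v :=
  CfsgLib.CharTwoInv.mem_iso_iff g.1 |>.mp g.2 v

theorem isoMat_polar (Q : QuadraticForm F (ι → F)) (g : ↥(Cfsg.isometryGroup F ⇑Q)) (u v : ι → F) :
    (polarBilin Q) (Matrix.toLinAlgEquiv' (isoMat ⇑Q g) u) (Matrix.toLinAlgEquiv' (isoMat ⇑Q g) v) =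
      (polarBilin Q) u v := by
  simp only [polarBilin_apply_apply, polar, ← map_add, isoMat_map]

variable [CharP F 2]

theorem polarBilin_isAlt {V : Type*} [AddCommGroup V] [Module F V] (Q : QuadraticForm F V) :
    LinearMap.IsAlt (polarBilin Q) := fun x => CfsgLib.CharTwoInv.polar_self_eq_zero Q x

theorem exists_isometry_of_sq_one (Q : QuadraticForm F (ι → F)) (M : Matrix ι ι F) (hM : M * M = 1)
    (hQ : ∀ v, Q (M.mulVec v) = Q v) :
    ∃ a : ↥(Cfsg.isometryGroup F ⇑Q), a * a = 1 ∧ isoMat ⇑Q a = M :=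
  ⟨⟨⟨M, M, hM, hM⟩, fun u _ => hQ u⟩, Subtype.ext (Units.ext hM), rfl⟩

theorem isConj_of_invariants [Fintype F] (Q : QuadraticForm F (ι → F)) (hQ : (polarBilin Q).Nondegenerate)
    (a b : ↥(Cfsg.isometryGroup F ⇑Q)) (ha : a * a = 1) (hb : b * b = 1)
    (hr : invRk (isoMat ⇑Q) a = invRk (isoMat ⇑Q) b)
    (halt : InvAlt (isoMat ⇑Q) (polarBilin Q) a ↔ InvAlt (isoMat ⇑Q) (polarBilin Q) b) : IsConj a b := by
  obtain ⟨g, hg, hgab⟩ := exists_conj_alt (polarBilin Q) hQ (polarBilin_isAlt Q) _ _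
    (toLin_apply_twice _ ha) (toLin_apply_twice _ hb) (isoMat_polar Q a) (isoMat_polar Q b) hr halt
  obtain ⟨h, hh, hha⟩ := CfsgLib.CharTwoInv.conj_isometry_of_conj_polar Q hQ
    (CfsgLib.CharTwoInv.glAut a.1) (CfsgLib.CharTwoInv.glAut b.1)
    (fun v => by rw [CfsgLib.CharTwoInv.glAut_apply]; exact isoMat_map _ a v)
    (fun v => by rw [CfsgLib.CharTwoInv.glAut_apply]; exact isoMat_map _ b v)
    g (fun u v => hg u v) (fun v => by
      rw [CfsgLib.CharTwoInv.glAut_apply, CfsgLib.CharTwoInv.glAut_apply]; exact hgab v)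
  let M : GL ι F := Matrix.GeneralLinearGroup.toLin.symm
    ((LinearMap.GeneralLinearGroup.generalLinearEquiv F (ι → F)).symm h)
  have hM : ∀ v, Matrix.mulVec (M : Matrix ι ι F) v = h v := fun v => by
    rw [← CfsgLib.CharTwoInv.glAut_apply]; simp [CfsgLib.CharTwoInv.glAut, M]
  refine isConj_iff.mpr ⟨⟨M, (CfsgLib.CharTwoInv.mem_iso_iff _).mpr fun v => by rw [hM]; exact hh v⟩, ?_⟩
  rw [mul_inv_eq_iff_eq_mul]
  refine Subtype.ext (Units.ext (Matrix.toLin'.injective (LinearMap.ext fun v => ?_)))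
  simp only [Subgroup.coe_mul, Units.val_mul, Matrix.toLin'_apply, ← Matrix.mulVec_mulVec, hM]
  rw [← CfsgLib.CharTwoInv.glAut_apply, hha, CfsgLib.CharTwoInv.glAut_apply]

theorem Q_range_of_alt (Q : QuadraticForm F (ι → F)) (a : ↥(Cfsg.isometryGroup F ⇑Q))
    (halt : InvAlt (isoMat ⇑Q) (polarBilin Q) a) (v : ι → F) :
    Q ((Matrix.toLinAlgEquiv' (isoMat ⇑Q a) - 1) v) = 0 := by
  have h := halt v
  rw [polarBilin_apply_apply, polar, isoMat_map (⇑Q) a] at h
  rw [LinearMap.sub_apply, End.one_apply, sub_eq_add_neg,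
    show -v = v from funext fun i => CharTwo.neg_eq _, add_comm]
  linear_combination h + Q v * CharTwo.two_eq_zero (R := F)

theorem card_orth_classes [Fintype F] (Q : QuadraticForm F (ι → F)) (hQ : (polarBilin Q).Nondegenerate)
    (q : (ι → F) → F) (hq : ⇑Q = q) {m k : ℕ} (hcard : Fintype.card ι = 2 * m)
    (hk : ∀ L : Submodule F (ι → F), (∀ x ∈ L, Q x = 0) → finrank F L ≤ 2 * k + 1)
    (h1 : ∀ s, 1 ≤ s → s ≤ m → ∃ M : Matrix ι ι F, M * M = 1 ∧ (∀ v, Q (M.mulVec v) = Q v) ∧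
      (M - 1).rank = s ∧ ∃ v, polar Q v (M.mulVec v) ≠ 0)
    (h2 : ∀ j, 1 ≤ j → j ≤ k → ∃ M : Matrix ι ι F, M * M = 1 ∧ (∀ v, Q (M.mulVec v) = Q v) ∧
      (M - 1).rank = 2 * j ∧ ∀ v, polar Q v (M.mulVec v) = 0) :
    Nat.card {C : ConjClasses ↥(Cfsg.isometryGroup F q) //
      ∃ g, ConjClasses.mk g = C ∧ orderOf g = 2} = m + k := by
  subst hq
  refine card_involution_classes (isoMat ⇑Q) (polarBilin Q) (isoMat_polar Q) (isoMat_injective _) hQ
    (polarBilin_isAlt Q) hcard (fun a b ha hb => isConj_of_invariants Q hQ a b ha hb)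
    (fun a _ halt => hk _ ?_) (fun s hs hsm => ?_) (fun j hj hjk => ?_)
  · rintro _ ⟨v, rfl⟩
    exact Q_range_of_alt Q a halt v
  · obtain ⟨M, hM, hMQ, hMr, v, hv⟩ := h1 s hs hsm
    obtain ⟨a, ha, haM⟩ := exists_isometry_of_sq_one Q M hM hMQ
    exact ⟨a, ha, by rw [invRk_eq, haM, hMr], fun h => hv (by simpa [haM] using h v)⟩
  · obtain ⟨M, hM, hMQ, hMr, hv⟩ := h2 j hj hjk
    obtain ⟨a, ha, haM⟩ := exists_isometry_of_sq_one Q M hM hMQ
    exact ⟨a, ha, by rw [invRk_eq, haM, hMr], fun v => by simpa [haM] using hv v⟩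

end CfsgLib.InvolCount
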