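import Mathlib
import Cfsg.Agent.Lib.InvolCount.Orth
import Cfsg.Agent.Lib.CharTwoInv.MaxSingular
import Cfsg.Agent.Lib.Orth.Reflection

/-! Involution classes of `Omega` in characteristic two, in every dimension in which the isometry
group is generated by reflections. -/

set_option autoImplicit false

namespace CfsgLib.InvolCount

open Module QuadraticMap
open CfsgLib.Classical.Quad (NDPolar Orth refl refl_apply isometryGroupEquiv isometryGroupEquiv_apply)

variable {F : Type*} [Field F] [Fintype F] [CharP F 2] {ι : Type} [Fintype ι] [DecidableEq ι]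
variable {Q : QuadraticForm F (ι → F)}

omit [Fintype F] [CharP F 2] in
theorem moved_eq_invRk (a : ↥(Cfsg.isometryGroup F ⇑Q)) :
    CfsgLib.Orth.moved (isometryGroupEquiv Q (Qf := ⇑Q) (fun _ => rfl) a) = invRk (isoMat ⇑Q) a := by
  rw [CfsgLib.Orth.moved, invRk]
  congr 2

theorem omega_iff_even (hnd : NDPolar Q) (hgen : Subgroup.closure (CfsgLib.Orth.reflSet Q) = ⊤)
    (hne : ∃ v, Q v ≠ 0) (a : ↥(Cfsg.isometryGroup F ⇑Q)) :
    a ∈ Cfsg.Omega F ⇑Q ↔ Even (invRk (isoMat ⇑Q) a) := by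
  rw [← moved_eq_invRk, ← CfsgLib.Orth.mem_commutator_iff hnd hgen hne]
  have hmap : (Cfsg.Omega F ⇑Q).map (isometryGroupEquiv Q fun _ => rfl).toMonoidHom
      = commutator (Orth Q) := by
    rw [Cfsg.Omega, commutator_def, commutator_def, Subgroup.map_commutator,
      Subgroup.map_top_of_surjective _ (MulEquiv.surjective _)]
  rw [← hmap]
  exact (Subgroup.mem_map_iff_mem (MulEquiv.injective _)).symm

theorem omega_index (hnd : NDPolar Q) (hgen : Subgroup.closure (CfsgLib.Orth.reflSet Q) = ⊤)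
    (hne : ∃ v, Q v ≠ 0) : (Cfsg.Omega F ⇑Q).index = 2 := by
  have hmap : (Cfsg.Omega F ⇑Q).map (isometryGroupEquiv Q fun _ => rfl).toMonoidHom
      = commutator (Orth Q) := by
    rw [Cfsg.Omega, commutator_def, commutator_def, Subgroup.map_commutator,
      Subgroup.map_top_of_surjective _ (MulEquiv.surjective _)]
  have h2 := CfsgLib.Orth.index_commutator_of_closure_refl hnd hgen hne
  rw [← hmap, Subgroup.index_map_of_bijective
    (f := (isometryGroupEquiv Q fun _ => rfl).toMonoidHom) (MulEquiv.bijective _)] at h2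
  exact h2

/-- An involution fixing a non-singular vector commutes with a reflection. -/
theorem exists_odd_commute (hnd : NDPolar Q) (hgen : Subgroup.closure (CfsgLib.Orth.reflSet Q) = ⊤)
    (a : ↥(Cfsg.isometryGroup F ⇑Q)) {x : ι → F} (hx : (Matrix.toLinAlgEquiv' (isoMat ⇑Q a)) x = x) (hQx : Q x ≠ 0) :
    ∃ r, r ∉ Cfsg.Omega F ⇑Q ∧ r * a = a * r := by
  set e := isometryGroupEquiv Q (Qf := ⇑Q) (fun _ => rfl) with he
  obtain ⟨r, hr⟩ := e.surjective (refl Q x)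
  refine ⟨r, fun hmem => ?_, ?_⟩
  · rw [omega_iff_even hnd hgen ⟨x, hQx⟩, ← moved_eq_invRk, ← he, hr] at hmem
    have h := CfsgLib.Orth.moved_refl_mul_parity hnd (1 : Orth Q) hQx
    rw [mul_one, CfsgLib.Orth.moved_one, Nat.cast_zero, zero_add,
      (ZMod.natCast_eq_zero_iff_even).mpr hmem] at h
    exact absurd h (by decide)
  · apply e.injective
    rw [map_mul, map_mul, hr]
    have htx : (e a).1 x = x := by rw [he, isometryGroupEquiv_apply]; exact hx
    have h := CfsgLib.Classical.Quad.refl_conj (e a) x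
    rw [htx] at h
    calc refl Q x * e a = (e a * refl Q x * (e a)⁻¹) * e a := by rw [h]
      _ = e a * refl Q x := by group

theorem omega_isConj_of_commute (hnd : NDPolar Q) (hgen : Subgroup.closure (CfsgLib.Orth.reflSet Q) = ⊤)
    (hne : ∃ v, Q v ≠ 0) (a b : ↥(Cfsg.Omega F ⇑Q)) {r : ↥(Cfsg.isometryGroup F ⇑Q)}
    (hr : r ∉ Cfsg.Omega F ⇑Q) (hra : r * a.1 = a.1 * r) (h : IsConj a.1 b.1) : IsConj a b := by
  obtain ⟨g, hg⟩ := isConj_iff.mp h
  by_cases hgO : g ∈ Cfsg.Omega F ⇑Q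
  · exact isConj_iff.mpr ⟨⟨g, hgO⟩, Subtype.ext hg⟩
  refine isConj_iff.mpr ⟨⟨g * r, ?_⟩, Subtype.ext ?_⟩
  · rw [Subgroup.mul_mem_iff_of_index_two (omega_index hnd hgen hne)]
    exact iff_of_false hgO hr
  · show g * r * a.1 * (g * r)⁻¹ = b.1
    rw [← hg]
    calc g * r * a.1 * (g * r)⁻¹ = g * (r * a.1) * r⁻¹ * g⁻¹ := by group
      _ = g * a.1 * g⁻¹ := by rw [hra]; group

omit [Fintype F] in
theorem parity_inf (hQ : (polarBilin Q).Nondegenerate) (hgen : Subgroup.closure (CfsgLib.Orth.reflSet Q) = ⊤)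
    {W : Submodule F (ι → F)} (hW : CfsgLib.CharTwoInv.TotSing Q W)
    (hWd : 2 * finrank F W = finrank F (ι → F)) (g : Orth Q) :
    (CfsgLib.Orth.moved g + finrank F (↥(W ⊓ W.map (g.1 : (ι → F) →ₗ[F] (ι → F))))) % 2 =
      finrank F W % 2 := by
  have hnd : NDPolar Q := fun x hx => hQ.1 x hx
  have hg := hgen.ge (Subgroup.mem_top g)
  induction hg using Subgroup.closure_induction_left with
  | one =>
    rw [CfsgLib.Orth.moved_one, show ((1 : Orth Q).1 : (ι → F) →ₗ[F] (ι → F)) = LinearMap.id from rfl,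
      Submodule.map_id, inf_idem, zero_add]
  | mul_left a ha b _ ih =>
    obtain ⟨v, hv, rfl⟩ := ha
    have hd : finrank F (W.map (b.1 : (ι → F) →ₗ[F] (ι → F))) = finrank F W := LinearEquiv.finrank_map_eq b.1 W
    have hmap : W.map ((refl Q v * b).1 : (ι → F) →ₗ[F] (ι → F)) =
        (W.map (b.1 : (ι → F) →ₗ[F] (ι → F))).map ((refl Q v).1 : (ι → F) →ₗ[F] (ι → F)) := by
      rw [← Submodule.map_comp]; rfl
    rw [hmap]
    have h1 := CfsgLib.Orth.moved_refl_mul hnd b hv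
    rcases CfsgLib.CharTwoInv.finrank_inf_refl hQ hW (CfsgLib.CharTwoInv.totSing_map b hW) hWd
      (by rw [hd]; exact hWd) hv with h' | h' <;> omega
  | inv_mul_cancel a ha b _ ih =>
    obtain ⟨v, hv, rfl⟩ := ha
    have hd : finrank F (W.map (b.1 : (ι → F) →ₗ[F] (ι → F))) = finrank F W := LinearEquiv.finrank_map_eq b.1 W
    have hmap : W.map (((refl Q v)⁻¹ * b).1 : (ι → F) →ₗ[F] (ι → F)) =
        (W.map (b.1 : (ι → F) →ₗ[F] (ι → F))).map ((refl Q v).1 : (ι → F) →ₗ[F] (ι → F)) := by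
      rw [CfsgLib.Classical.Quad.refl_inv, ← Submodule.map_comp]; rfl
    rw [hmap, CfsgLib.Classical.Quad.refl_inv]
    have h1 := CfsgLib.Orth.moved_refl_mul hnd b hv
    rcases CfsgLib.CharTwoInv.finrank_inf_refl hQ hW (CfsgLib.CharTwoInv.totSing_map b hW) hWd
      (by rw [hd]; exact hWd) hv with h' | h' <;> omega

theorem centralizer_le_omega (hQ : (polarBilin Q).Nondegenerate)
    (hgen : Subgroup.closure (CfsgLib.Orth.reflSet Q) = ⊤) (hne : ∃ v, Q v ≠ 0) {m : ℕ}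
    (hcard : Fintype.card ι = 2 * m) (a : ↥(Cfsg.isometryGroup F ⇑Q))
    (halt : InvAlt (isoMat ⇑Q) (polarBilin Q) a) (hrk : invRk (isoMat ⇑Q) a = m)
    (c : ↥(Cfsg.isometryGroup F ⇑Q)) (hc : c * a = a * c) : c ∈ Cfsg.Omega F ⇑Q := by
  set W := LinearMap.range ((Matrix.toLinAlgEquiv' (isoMat ⇑Q a)) - 1) with hW
  have hWT : CfsgLib.CharTwoInv.TotSing Q W := by
    rintro _ ⟨v, rfl⟩; exact Q_range_of_alt Q a halt v
  have hWd : 2 * finrank F W = finrank F (ι → F) := by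
    rw [finrank_fintype_fun_eq_card, hcard, ← hrk]; rfl
  set e := isometryGroupEquiv Q (Qf := ⇑Q) (fun _ => rfl) with he
  have hp := parity_inf hQ hgen hWT hWd (e c)
  have hmap : W.map ((e c).1 : (ι → F) →ₗ[F] (ι → F)) = W := by
    have he' : ((e c).1 : (ι → F) →ₗ[F] (ι → F)) = (Matrix.toLinAlgEquiv' (isoMat ⇑Q c)) := LinearMap.ext fun x => by
      rw [LinearEquiv.coe_coe, he, isometryGroupEquiv_apply]; rfl
    have hcomm : (Matrix.toLinAlgEquiv' (isoMat ⇑Q c)) * ((Matrix.toLinAlgEquiv' (isoMat ⇑Q a)) - 1) = ((Matrix.toLinAlgEquiv' (isoMat ⇑Q a)) - 1) * (Matrix.toLinAlgEquiv' (isoMat ⇑Q c)) := by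
      rw [mul_sub, sub_mul, ← map_mul, ← map_mul, hc, map_mul, map_mul, mul_one, one_mul]
    rw [hW, ← LinearMap.range_comp, he', ← Module.End.mul_eq_comp, hcomm, Module.End.mul_eq_comp,
      LinearMap.range_comp_of_range_eq_top]
    rw [← he', LinearMap.range_eq_top]
    exact (e c).1.surjective
  rw [hmap, inf_idem, moved_eq_invRk] at hp
  rw [omega_iff_even (fun x hx => hQ.1 x hx) hgen hne, Nat.even_iff]
  omega

/-- The number of classes of involutions of `Omega`. -/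
theorem card_omega_classes (hQ : (polarBilin Q).Nondegenerate)
    (hgen : Subgroup.closure (CfsgLib.Orth.reflSet Q) = ⊤) (q : (ι → F) → F) (hq : ⇑Q = q) {m k : ℕ}
    (hm : 1 ≤ m) (hcard : Fintype.card ι = 2 * m) (hkm : 2 * k ≤ m)
    (hk : ∀ L : Submodule F (ι → F), (∀ x ∈ L, Q x = 0) → finrank F L ≤ 2 * k + 1)
    (h1 : ∀ s, 1 ≤ s → s ≤ m → ∃ M : Matrix ι ι F, M * M = 1 ∧ (∀ v, Q (M.mulVec v) = Q v) ∧
      (M - 1).rank = s ∧ ∃ v, polar Q v (M.mulVec v) ≠ 0)
    (h2 : ∀ j, 1 ≤ j → j ≤ k → ∃ M : Matrix ι ι F, M * M = 1 ∧ (∀ v, Q (M.mulVec v) = Q v) ∧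
      (M - 1).rank = 2 * j ∧ ∀ v, polar Q v (M.mulVec v) = 0) :
    Nat.card {C : ConjClasses ↥(Cfsg.Omega F q) // ∃ g, ConjClasses.mk g = C ∧ orderOf g = 2} =
      m / 2 + k + (if 2 * k = m then 1 else 0) := by
  classical
  subst hq
  have hnd : NDPolar Q := fun x hx => hQ.1 x hx
  -- a non-singular vector
  obtain ⟨M₀, -, hM₀, -, v₀, hv₀⟩ := h1 1 le_rfl hm
  have hne : ∃ v, Q v ≠ 0 := by
    by_contra hcon
    push Not at hcon
    exact hv₀ (by simp [polar, hcon])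
  obtain ⟨r, hr⟩ : ∃ r, r ∉ Cfsg.Omega F ⇑Q := by
    by_contra hcon
    push Not at hcon
    have := omega_index hnd hgen hne
    rw [(Subgroup.eq_top_iff' _).mpr hcon, Subgroup.index_top] at this
    omega
  -- representatives
  have e1 : ∀ i : Fin (m / 2), ∃ a : ↥(Cfsg.Omega F ⇑Q), a * a = 1 ∧
      invRk (isoMat ⇑Q) a.1 = 2 * (i + 1) ∧ ¬ InvAlt (isoMat ⇑Q) (polarBilin Q) a.1 := fun i => by
    obtain ⟨M, hM, hMQ, hMr, v, hv⟩ := h1 (2 * (i + 1)) (by omega) (by omega)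
    obtain ⟨a, ha, haM⟩ := exists_isometry_of_sq_one Q M hM hMQ
    have hark : invRk (isoMat ⇑Q) a = 2 * (i + 1) := by rw [invRk_eq, haM, hMr]
    refine ⟨⟨a, (omega_iff_even hnd hgen hne a).mpr (hark ▸ even_two_mul _)⟩, Subtype.ext ha, hark,
      fun h => hv (by simpa [haM] using h v)⟩
  have e2 : ∀ i : Fin k, ∃ a : ↥(Cfsg.Omega F ⇑Q), a * a = 1 ∧
      invRk (isoMat ⇑Q) a.1 = 2 * (i + 1) ∧ InvAlt (isoMat ⇑Q) (polarBilin Q) a.1 := fun i => by
    obtain ⟨M, hM, hMQ, hMr, hv⟩ := h2 (i + 1) (by omega) (by omega)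
    obtain ⟨a, ha, haM⟩ := exists_isometry_of_sq_one Q M hM hMQ
    have hark : invRk (isoMat ⇑Q) a = 2 * (i + 1) := by rw [invRk_eq, haM, hMr]
    refine ⟨⟨a, (omega_iff_even hnd hgen hne a).mpr (hark ▸ even_two_mul _)⟩, Subtype.ext ha, hark,
      fun v => by simpa [haM] using hv v⟩
  choose r₁ hr₁ hr₁k hr₁a using e1
  choose r₂ hr₂ hr₂k hr₂a using e2
  have hlast : ∀ _ : Fin (if 2 * k = m then 1 else 0), 2 * k = m ∧ k - 1 < k := fun i => by
    have h : 2 * k = m := by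
      by_contra h
      exact absurd i.2 (by simp [h])
    exact ⟨h, by omega⟩
  have hnorm : (Cfsg.Omega F ⇑Q).Normal := inferInstance
  let r₃ : Fin (if 2 * k = m then 1 else 0) → ↥(Cfsg.Omega F ⇑Q) := fun i =>
    ⟨r * (r₂ ⟨k - 1, (hlast i).2⟩).1 * r⁻¹, hnorm.conj_mem _ (r₂ ⟨k - 1, (hlast i).2⟩).2 r⟩
  have hinv : ∀ a b : ↥(Cfsg.Omega F ⇑Q), IsConj a.1 b.1 → invRk (isoMat ⇑Q) a.1 = invRk (isoMat ⇑Q) b.1 ∧
      (InvAlt (isoMat ⇑Q) (polarBilin Q) a.1 ↔ InvAlt (isoMat ⇑Q) (polarBilin Q) b.1) := fun a b h =>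
    invariants_of_conj _ _ (isoMat_polar Q) h
  have hsub : ∀ a b : ↥(Cfsg.Omega F ⇑Q), IsConj a b → IsConj a.1 b.1 := fun a b h =>
    MonoidHom.map_isConj (Subgroup.subtype _) h
  have hr₃ : ∀ i, invRk (isoMat ⇑Q) (r₃ i).1 = m ∧ InvAlt (isoMat ⇑Q) (polarBilin Q) (r₃ i).1 := fun i => by
    have h := invariants_of_conj _ (polarBilin Q) (isoMat_polar Q)
      (isConj_iff.mpr ⟨r, rfl⟩ : IsConj (r₂ ⟨k - 1, (hlast i).2⟩).1 (r₃ i).1)
    refine ⟨?_, h.2.mp (hr₂a _)⟩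
    rw [← h.1, hr₂k]
    show 2 * (k - 1 + 1) = m
    have := hlast i
    omega
  -- the two halves of a split class
  have hsplit : ∀ i, ¬ IsConj (r₂ ⟨k - 1, (hlast i).2⟩) (r₃ i) := by
    intro i h
    obtain ⟨g, hg⟩ := isConj_iff.mp h
    have hg' : g.1 * (r₂ ⟨k - 1, (hlast i).2⟩).1 * g.1⁻¹ = r * (r₂ ⟨k - 1, (hlast i).2⟩).1 * r⁻¹ :=
      congrArg Subtype.val hg
    apply hr
    set x := (r₂ ⟨k - 1, (hlast i).2⟩).1
    have hc : (g.1⁻¹ * r) * x = x * (g.1⁻¹ * r) := by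
      calc (g.1⁻¹ * r) * x = g.1⁻¹ * (r * x * r⁻¹) * r := by group
        _ = x * (g.1⁻¹ * r) := by rw [← hg']; group
    have hmem := centralizer_le_omega hQ hgen hne hcard x (hr₂a _) (by
      rw [hr₂k]; show 2 * (k - 1 + 1) = m; have := hlast i; omega) _ hc
    simpa using mul_mem g.2 hmem
  have hne1 : ∀ a : ↥(Cfsg.Omega F ⇑Q), 1 ≤ invRk (isoMat ⇑Q) a.1 → a ≠ 1 := by
    rintro a h rfl
    rw [invRk_eq, OneMemClass.coe_one, map_one, sub_self, Matrix.rank_zero] at h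
    omega
  rw [card_classes_of_reps (fun g => orderOf g = 2) (Sum.elim (Sum.elim r₁ r₂) r₃) ?_ ?_ ?_]
  · simp
  · rintro ((i | i) | i)
    · exact orderOf_two_iff.mpr ⟨hr₁ i, hne1 _ (by rw [Sum.elim_inl, Sum.elim_inl, hr₁k]; omega)⟩
    · exact orderOf_two_iff.mpr ⟨hr₂ i, hne1 _ (by rw [Sum.elim_inl, Sum.elim_inr, hr₂k]; omega)⟩
    · refine orderOf_two_iff.mpr ⟨Subtype.ext ?_, hne1 _ (by rw [Sum.elim_inr, (hr₃ i).1]; omega)⟩
      show r * _ * r⁻¹ * (r * _ * r⁻¹) = 1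
      calc _ = r * ((r₂ ⟨k - 1, (hlast i).2⟩).1 * (r₂ ⟨k - 1, (hlast i).2⟩).1) * r⁻¹ := by group
        _ = 1 := by rw [show _ * _ = (1 : ↥(Cfsg.isometryGroup F ⇑Q)) from congrArg Subtype.val (hr₂ _)]; group
  · rintro ((i | i) | i) ((j | j) | j) h <;> have h' := hinv _ _ (hsub _ _ h) <;>
      simp only [Sum.elim_inl, Sum.elim_inr, hr₁k, hr₂k] at h' h
    · exact congrArg (Sum.inl ∘ Sum.inl) (Fin.ext (by omega))
    · exact absurd (h'.2.mpr (hr₂a j)) (hr₁a i)
    · exact absurd (h'.2.mpr (hr₃ j).2) (hr₁a i)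
    · exact absurd (h'.2.mp (hr₂a i)) (hr₁a j)
    · exact congrArg (Sum.inl ∘ Sum.inr) (Fin.ext (by omega))
    · exfalso
      refine hsplit j ?_
      have hi : i = ⟨k - 1, (hlast j).2⟩ := Fin.ext (by
        have := h'.1
        rw [(hr₃ j).1] at this
        have := hlast j
        show (i : ℕ) = k - 1
        omega)
      rwa [hi] at h
    · exact absurd (h'.2.mp (hr₃ i).2) (hr₁a j)
    · exfalso
      refine hsplit i ?_
      have hj : j = ⟨k - 1, (hlast i).2⟩ := Fin.ext (by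
        have := h'.1
        rw [(hr₃ i).1] at this
        have := hlast i
        show (j : ℕ) = k - 1
        omega)
      rw [hj] at h
      exact h.symm
    · refine congrArg Sum.inr (Fin.ext ?_)
      have h1 := i.2
      have h2 := j.2
      split_ifs at h1 h2 <;> omega
  · intro g hg
    obtain ⟨hg1, hg2⟩ := orderOf_two_iff.mp hg
    have hg1' : g.1 * g.1 = 1 := congrArg Subtype.val hg1
    have htw := toLin_apply_twice (isoMat ⇑Q) hg1'
    have hle : invRk (isoMat ⇑Q) g.1 ≤ m := by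
      have := finrank_range_le (Matrix.toLinAlgEquiv' (isoMat ⇑Q g.1)) htw
      rw [finrank_fintype_fun_eq_card, hcard] at this
      rw [invRk]; omega
    obtain ⟨j, hj⟩ := (omega_iff_even hnd hgen hne g.1).mp g.2
    have hpos : 1 ≤ j := by
      by_contra h
      apply hg2 (Subtype.ext (isoMat_injective _ ?_))
      rw [OneMemClass.coe_one, map_one, ← sub_eq_zero]
      refine Matrix.toLinAlgEquiv'.injective ?_
      rw [map_zero, map_sub, map_one, ← LinearMap.range_eq_bot, ← Submodule.finrank_eq_zero]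
      show invRk (isoMat ⇑Q) g.1 = 0
      omega
    have hfix : ¬ (InvAlt (isoMat ⇑Q) (polarBilin Q) g.1 ∧ invRk (isoMat ⇑Q) g.1 = m) →
        ∀ b : ↥(Cfsg.Omega F ⇑Q), IsConj g.1 b.1 → IsConj g b := by
      intro hnot b hb
      obtain ⟨x, hx, hQx⟩ : ∃ x ∈ LinearMap.ker ((Matrix.toLinAlgEquiv' (isoMat ⇑Q g.1)) - 1), Q x ≠ 0 := by
        by_contra hcon
        push Not at hcon
        have hrange : LinearMap.range ((Matrix.toLinAlgEquiv' (isoMat ⇑Q g.1)) - 1) ≤ LinearMap.ker ((Matrix.toLinAlgEquiv' (isoMat ⇑Q g.1)) - 1) := by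
          rintro _ ⟨y, rfl⟩
          rw [LinearMap.mem_ker]
          exact (selfAdjNil_sub_one (polarBilin Q) (Matrix.toLinAlgEquiv' (isoMat ⇑Q g.1)) htw (isoMat_polar Q g.1)).sq y
        have d1 := Submodule.finrank_mono hrange
        have d2 := CfsgLib.CharTwoInv.TotSing.two_mul_le hQ (L := LinearMap.ker ((Matrix.toLinAlgEquiv' (isoMat ⇑Q g.1)) - 1)) hcon
        have d3 := LinearMap.finrank_range_add_finrank_ker ((Matrix.toLinAlgEquiv' (isoMat ⇑Q g.1)) - 1)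
        rw [finrank_fintype_fun_eq_card, hcard] at d2 d3
        refine hnot ⟨fun v => ?_, by rw [invRk]; omega⟩
        have h0 := hcon _ (hrange ⟨v, rfl⟩)
        rw [LinearMap.sub_apply, End.one_apply, sub_eq_add_neg,
          show -v = v from funext fun i => CharTwo.neg_eq _, add_comm] at h0
        rw [polarBilin_apply_apply, polar, h0, isoMat_map (⇑Q) g.1]
        linear_combination (-(Q v)) * CharTwo.two_eq_zero (R := F)
      obtain ⟨r', hr', hr'g⟩ := exists_odd_commute hnd hgen g.1 (sub_eq_zero.mp (LinearMap.mem_ker.mp hx)) hQx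
      exact omega_isConj_of_commute hnd hgen hne g b hr' hr'g hb
    by_cases halt : InvAlt (isoMat ⇑Q) (polarBilin Q) g.1
    · have hjk : invRk (isoMat ⇑Q) g.1 ≤ 2 * k + 1 := hk _ (by
        rintro _ ⟨v, rfl⟩; exact Q_range_of_alt Q g.1 halt v)
      have hO : IsConj g.1 (r₂ ⟨j - 1, by omega⟩).1 := isConj_of_invariants Q hQ _ _ hg1'
        (congrArg Subtype.val (hr₂ _)) (by rw [hr₂k, hj]; show j + j = 2 * (j - 1 + 1); omega)
        (iff_of_true halt (hr₂a _))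
      by_cases hmax : invRk (isoMat ⇑Q) g.1 = m
      · obtain ⟨x, hx⟩ := isConj_iff.mp hO
        have hkeq : 2 * k = m := by omega
        by_cases hxO : x ∈ Cfsg.Omega F ⇑Q
        · exact ⟨Sum.inl (Sum.inr ⟨j - 1, by omega⟩), (isConj_iff.mpr ⟨⟨x, hxO⟩, Subtype.ext hx⟩).symm⟩
        · have hrx : r * x ∈ Cfsg.Omega F ⇑Q := by
            rw [Subgroup.mul_mem_iff_of_index_two (omega_index hnd hgen hne)]
            exact iff_of_false hr hxO
          refine ⟨Sum.inr ⟨0, by rw [if_pos hkeq]; omega⟩, (isConj_iff.mpr ⟨⟨r * x, hrx⟩, Subtype.ext ?_⟩).symm⟩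
          · show r * x * g.1 * (r * x)⁻¹ = r * _ * r⁻¹
            have he : (⟨j - 1, by omega⟩ : Fin k) = ⟨k - 1, by omega⟩ := Fin.ext (by
              show j - 1 = k - 1
              omega)
            rw [he] at hx
            rw [← hx]
            group
      · exact ⟨Sum.inl (Sum.inr ⟨j - 1, by omega⟩), (hfix (fun h => hmax h.2) _ hO).symm⟩
    · have hO : IsConj g.1 (r₁ ⟨j - 1, by omega⟩).1 := isConj_of_invariants Q hQ _ _ hg1'
        (congrArg Subtype.val (hr₁ _)) (by rw [hr₁k, hj]; show j + j = 2 * (j - 1 + 1); omega)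
        (iff_of_false halt (hr₁a _))
      exact ⟨Sum.inl (Sum.inl ⟨j - 1, by omega⟩), (hfix (fun h => halt h.1) _ hO).symm⟩

end CfsgLib.InvolCount
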