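import Mathlib
import Cfsg.Agent.Lib.Linear.Symplectic
import Cfsg.Agent.Lib.InvolCount.Basic
import Cfsg.Prelude.Def_Classical

/-! Representatives of the involution classes of symplectic and orthogonal groups in characteristic
two: exchanges of hyperbolic partners and alternating shears. -/

set_option autoImplicit false

namespace CfsgLib.InvolCount

open Matrix Cfsg

variable {F : Type*} [Field F] [CharP F 2] {m : ℕ}

/-- The projection to the first `s` coordinates. -/
def projFirst (m s : ℕ) (F : Type*) [Field F] : Matrix (Fin m) (Fin m) F :=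
  diagonal fun i => if i.val < s then 1 else 0

/-- The pairing of `a` with `a + h` for `a < h`. -/
def pairMat (m h : ℕ) (F : Type*) [Field F] : Matrix (Fin m) (Fin m) F :=
  Matrix.of fun a b => if (a.val < h ∧ b.val = a.val + h) ∨ (b.val < h ∧ a.val = b.val + h) then 1 else 0

/-- `t - 1` for the exchange of the first `s` hyperbolic pairs. -/
def swapN (m s : ℕ) (F : Type*) [Field F] : Matrix (Fin m ⊕ Fin m) (Fin m ⊕ Fin m) F :=
  fromBlocks (projFirst m s F) (projFirst m s F) (projFirst m s F) (projFirst m s F)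

/-- `t - 1` for the alternating shear of rank `2 h`. -/
def shearN (m h : ℕ) (F : Type*) [Field F] : Matrix (Fin m ⊕ Fin m) (Fin m ⊕ Fin m) F :=
  fromBlocks 0 (pairMat m h F) 0 0

omit [CharP F 2] in
theorem rank_of_sandwich {ι κ : Type*} [Fintype ι] [DecidableEq ι] [Fintype κ] [DecidableEq κ]
    (M : Matrix ι ι F) (X : Matrix ι κ F) (Y : Matrix κ ι F) (E : Matrix κ κ F)
    (hM : M = X * E * Y) : M.rank ≤ E.rank := by
  rw [hM]
  exact (Matrix.rank_mul_le_left _ _).trans (Matrix.rank_mul_le_right _ _)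

omit [CharP F 2] in
theorem rank_projFirst {s : ℕ} (hs : s ≤ m) : (projFirst m s F).rank = s := by
  classical
  rw [projFirst, Matrix.rank_diagonal]
  rw [← Nat.card_eq_fintype_card, Nat.card_congr (Equiv.subtypeEquivRight (q := fun i : Fin m => i.val < s)
    fun i => by by_cases h : i.val < s <;> simp [h])]
  rw [Nat.card_eq_fintype_card, Fintype.card_subtype]
  rw [show (Finset.univ.filter fun i : Fin m => i.val < s) = Finset.univ.map (Fin.castLEEmb hs) by
    ext i
    simp only [Finset.mem_filter, Finset.mem_univ, true_and, Finset.mem_map, Fin.castLEEmb_apply]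
    exact ⟨fun h => ⟨⟨i, h⟩, rfl⟩, fun ⟨j, hj⟩ => hj ▸ j.2⟩]
  simp

omit [CharP F 2] in
theorem rank_pairMat {h : ℕ} (hh : 2 * h ≤ m) : (pairMat m h F).rank = 2 * h := by
  apply le_antisymm
  · rw [← rank_projFirst (F := F) hh]
    refine le_of_eq_of_le ?_ (Matrix.rank_mul_le_left (projFirst m (2 * h) F) (pairMat m h F))
    congr 1
    ext a b
    rw [projFirst, Matrix.diagonal_mul, pairMat, Matrix.of_apply]
    split_ifs with h1 h2 <;> simp <;> omega
  · refine le_of_eq_of_le ?_ (Matrix.rank_submatrix_le (pairMat m h F) (fun i : Fin (2 * h) => (⟨i, by omega⟩ : Fin m))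
      (fun i : Fin (2 * h) => (⟨if i.val < h then i + h else i - h, by split <;> omega⟩ : Fin m)))
    rw [show (pairMat m h F).submatrix _ _ = (1 : Matrix (Fin (2 * h)) (Fin (2 * h)) F) from ?_,
      Matrix.rank_one, Fintype.card_fin]
    ext i j
    simp only [Matrix.submatrix_apply, pairMat, Matrix.of_apply, Matrix.one_apply, Fin.ext_iff]
    have := i.2
    have := j.2
    refine if_congr ?_ rfl rfl
    split <;> omega

omit [CharP F 2] in
theorem rank_swapN {s : ℕ} (hs : s ≤ m) : (swapN m s F).rank = s := by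
  apply le_antisymm
  · conv_rhs => rw [← rank_projFirst (F := F) hs]
    refine rank_of_sandwich _ (Matrix.fromRows 1 1) (Matrix.fromCols 1 1) _ ?_
    rw [Matrix.fromRows_mul, one_mul, Matrix.fromRows_mul_fromCols, swapN]
    simp
  · refine le_of_eq_of_le ?_ (Matrix.rank_submatrix_le (swapN m s F) Sum.inl Sum.inl)
    exact (rank_projFirst hs).symm

omit [CharP F 2] in
theorem rank_shearN {h : ℕ} (hh : 2 * h ≤ m) : (shearN m h F).rank = 2 * h := by
  apply le_antisymm
  · conv_rhs => rw [← rank_pairMat (F := F) hh]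
    refine rank_of_sandwich _ (Matrix.fromRows 1 0) (Matrix.fromCols 0 1) _ ?_
    rw [Matrix.fromRows_mul, one_mul, zero_mul, Matrix.fromRows_mul_fromCols, shearN]
    simp
  · refine le_of_eq_of_le ?_ (Matrix.rank_submatrix_le (shearN m h F) Sum.inl Sum.inr)
    exact (rank_pairMat hh).symm

theorem add_one_sq {ι : Type*} [Fintype ι] [DecidableEq ι] {N : Matrix ι ι F} (hN : N * N = 0) :
    (1 + N) * (1 + N) = 1 := by
  rw [mul_add, add_mul, add_mul, one_mul, one_mul, mul_one, hN, add_zero, add_assoc]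
  rw [show N + N = (2 : F) • N by rw [two_smul], CharTwo.two_eq_zero, zero_smul, add_zero]

theorem swapN_sq (s : ℕ) : swapN m s F * swapN m s F = 0 := by
  have : ∀ A : Matrix (Fin m) (Fin m) F, A + A = 0 := fun A => by
    rw [show A + A = (2 : F) • A by rw [two_smul], CharTwo.two_eq_zero, zero_smul]
  rw [swapN, Matrix.fromBlocks_multiply]
  simp [this]

omit [CharP F 2] in
theorem shearN_sq (h : ℕ) : shearN m h F * shearN m h F = 0 := by
  rw [shearN, Matrix.fromBlocks_multiply]
  simp

omit [CharP F 2] in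
theorem swapN_mulVec (s : ℕ) (v : Fin m ⊕ Fin m → F) :
    swapN m s F *ᵥ v = Sum.elim (fun i => if i.val < s then v (.inl i) + v (.inr i) else 0)
      (fun i => if i.val < s then v (.inl i) + v (.inr i) else 0) := by
  rw [swapN, Matrix.fromBlocks_mulVec]
  funext a
  rcases a with i | i <;> simp [projFirst, Matrix.mulVec_diagonal] <;> split <;> simp

omit [CharP F 2] in
theorem shearN_mulVec (h : ℕ) (v : Fin m ⊕ Fin m → F) :
    shearN m h F *ᵥ v = Sum.elim (pairMat m h F *ᵥ fun i => v (.inr i)) 0 := by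
  rw [shearN, Matrix.fromBlocks_mulVec]
  funext a
  rcases a with i | i <;> simp [Function.comp_def]

theorem pairMat_quad (h : ℕ) (r : Fin m → F) : r ⬝ᵥ (pairMat m h F *ᵥ r) = 0 := by
  have hsym : (pairMat m h F)ᵀ = pairMat m h F := by
    ext a b
    simp only [Matrix.transpose_apply, pairMat, Matrix.of_apply, or_comm]
  let φ : (Fin m → F) →+ F :=
    { toFun := fun r => r ⬝ᵥ (pairMat m h F *ᵥ r)
      map_zero' := by simp
      map_add' := fun x y => by
        have hxy : y ⬝ᵥ (pairMat m h F *ᵥ x) = x ⬝ᵥ (pairMat m h F *ᵥ y) := by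
          rw [Matrix.dotProduct_mulVec, ← Matrix.mulVec_transpose, hsym, dotProduct_comm]
        rw [Matrix.mulVec_add, dotProduct_add, add_dotProduct, add_dotProduct, hxy]
        linear_combination (x ⬝ᵥ (pairMat m h F *ᵥ y)) * CharTwo.two_eq_zero (R := F) }
  show φ r = 0
  rw [← Finset.univ_sum_single r, map_sum]
  refine Finset.sum_eq_zero fun i _ => ?_
  show Pi.single i (r i) ⬝ᵥ (pairMat m h F *ᵥ Pi.single i (r i)) = 0
  rw [single_dotProduct, Matrix.mulVec_single]
  simp [pairMat]
  omega

theorem quad_swap (s : ℕ) (v : Fin m ⊕ Fin m → F) :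
    quadFormPlus m F ((1 + swapN m s F) *ᵥ v) = quadFormPlus m F v := by
  rw [Matrix.add_mulVec, Matrix.one_mulVec, swapN_mulVec, quadFormPlus, quadFormPlus]
  refine Finset.sum_congr rfl fun i _ => ?_
  simp only [Pi.add_apply, Sum.elim_inl, Sum.elim_inr]
  split
  · linear_combination ((v (.inl i) + v (.inr i)) ^ 2) * CharTwo.two_eq_zero (R := F)
  · ring

theorem quad_shear (h : ℕ) (v : Fin m ⊕ Fin m → F) :
    quadFormPlus m F ((1 + shearN m h F) *ᵥ v) = quadFormPlus m F v := by
  rw [Matrix.add_mulVec, Matrix.one_mulVec, shearN_mulVec, quadFormPlus, quadFormPlus]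
  have h0 := pairMat_quad h (F := F) fun i => v (.inr i)
  rw [dotProduct] at h0
  rw [← add_zero (∑ i, v (.inl i) * v (.inr i)), ← h0, ← Finset.sum_add_distrib]
  refine Finset.sum_congr rfl fun i _ => ?_
  simp only [Pi.add_apply, Sum.elim_inl, Sum.elim_inr, Pi.zero_apply]
  ring

theorem sympForm_eq_polar (u v : Fin m ⊕ Fin m → F) :
    sympForm m F u v = QuadraticMap.polar (quadFormPlus m F) u v := by
  rw [CfsgLib.Linear.Symp.sympForm_eq_sum, QuadraticMap.polar, quadFormPlus, quadFormPlus, quadFormPlus,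
    ← Finset.sum_sub_distrib, ← Finset.sum_sub_distrib]
  refine Finset.sum_congr rfl fun i _ => ?_
  simp only [Pi.add_apply]
  linear_combination (-(u (.inl i) * v (.inr i))) * CharTwo.two_eq_zero (R := F)

theorem symp_shear_eq_zero (h : ℕ) (v : Fin m ⊕ Fin m → F) :
    sympForm m F v ((1 + shearN m h F) *ᵥ v) = 0 := by
  rw [Matrix.add_mulVec, Matrix.one_mulVec, CfsgLib.Linear.Symp.form_add_right, CfsgLib.Linear.Symp.form_self,
    zero_add, CfsgLib.Linear.Symp.sympForm_eq_sum, shearN_mulVec]
  refine Eq.trans (Finset.sum_congr rfl fun i _ => ?_) (pairMat_quad h (F := F) fun i => v (.inr i))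
  simp

theorem symp_swap_ne_zero {s : ℕ} (i : Fin m) (hi : i.val < s) :
    sympForm m F (Pi.single (.inl i) 1) ((1 + swapN m s F) *ᵥ Pi.single (.inl i) 1) ≠ 0 := by
  rw [Matrix.add_mulVec, Matrix.one_mulVec, CfsgLib.Linear.Symp.form_add_right, CfsgLib.Linear.Symp.form_self,
    zero_add, CfsgLib.Linear.Symp.form_swap, CfsgLib.Linear.Symp.form_single_inl, swapN_mulVec]
  simp [hi]

end CfsgLib.InvolCount
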